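import Groth.Agent.Lib.FinEnv6.Stage
import Mathlib.RingTheory.AdjoinRoot
import Mathlib.RingTheory.Flat.FaithfullyFlat.Algebra
import Mathlib.Algebra.Polynomial.Lifts
import Mathlib.AlgebraicGeometry.AlgClosed.Basic

/-!
# Splitting monic polynomials by finite surjective covers
-/

set_option autoImplicit false
set_option linter.all false
set_option backward.isDefEq.respectTransparency false

universe u

open CategoryTheory Limits AlgebraicGeometry Polynomial TopologicalSpace

namespace GrothLib.SplitLift10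

theorem mem_range_of_root {S L : Type u} [CommRing S] [CommRing L] [IsDomain L] (ψ : S →+* L)
    {f : S[X]} (hf : f.Splits) (hne : f.map ψ ≠ 0) {b : L} (hb : (f.map ψ).IsRoot b) :
    b ∈ Set.range ψ := by
  induction hf using Submonoid.closure_induction with
  | mem x hx =>
    rcases hx with ⟨a, rfl⟩ | ⟨a, rfl⟩
    · exact absurd (by simpa [Polynomial.map_C] using hb) (by simpa [Polynomial.map_C] using hne)
    · refine ⟨-a, ?_⟩
      have : b + ψ a = 0 := by simpa using hb
      rw [map_neg, eq_neg_of_add_eq_zero_left this]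
  | one => simp at hb
  | mul p q _ _ hp hq =>
    rw [Polynomial.map_mul] at hne hb
    rcases Polynomial.root_mul.1 hb with h | h
    · exact hp (left_ne_zero_of_mul hne) h
    · exact hq (right_ne_zero_of_mul hne) h

theorem exists_split {A : Type u} [CommRing A] {P : A[X]} (hP : P.Monic) :
    ∃ (S : Type u) (_ : CommRing S) (_ : Algebra A S) (_ : Module.Finite A S),
      Function.Surjective (PrimeSpectrum.comap (algebraMap A S)) ∧
        (P.map (algebraMap A S)).Splits := by
  rcases subsingleton_or_nontrivial A with h | h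
  · refine ⟨A, inferInstance, inferInstance, inferInstance, fun p => ⟨p, rfl⟩, ?_⟩
    rw [Subsingleton.elim (P.map (algebraMap A A)) 0]; exact Polynomial.Splits.zero
  · obtain ⟨S, _, _, _, _, _, hS⟩ := hP.exists_splits_map
    exact ⟨S, inferInstance, inferInstance, inferInstance,
      PrimeSpectrum.comap_surjective_of_faithfullyFlat, hS⟩

/-- A finite algebra over a quotient is killed by one monic polynomial of the base on generators. -/
theorem exists_monic {R A B : Type u} [CommRing R] [CommRing A] [CommRing B] [Algebra A B]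
    [Module.Finite A B] (σ : R →+* A) (hσ : Function.Surjective σ) :
    ∃ (P : R[X]) (T : Finset B), P.Monic ∧ Submodule.span A (T : Set B) = ⊤ ∧
      ∀ b ∈ T, P.eval₂ ((algebraMap A B).comp σ) b = 0 := by
  classical
  obtain ⟨T, hT⟩ := (Module.Finite.fg_top (R := A) (M := B))
  have h : ∀ b : B, ∃ Q : R[X], Q.Monic ∧ Q.eval₂ ((algebraMap A B).comp σ) b = 0 := fun b => by
    obtain ⟨q, hq, hqb⟩ := Algebra.IsIntegral.isIntegral (R := A) b
    obtain ⟨Q, hQ, -, hQm⟩ := Polynomial.lifts_and_natDegree_eq_and_monic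
      ((Polynomial.lifts_iff_coeff_lifts q).2 fun n => hσ _) hq
    exact ⟨Q, hQm, by rw [← Polynomial.eval₂_map, hQ]; exact hqb⟩
  choose Q hQm hQb using h
  refine ⟨∏ b ∈ T, Q b, T, Polynomial.monic_prod_of_monic _ _ fun b _ => hQm b, hT, fun b hb => ?_⟩
  rw [Polynomial.eval₂_finsetProd]
  exact Finset.prod_eq_zero hb (hQb b)

/-- A finite surjective cover of a Noetherian scheme containing a given finite cover of an affine
open. -/
theorem exists_cover {Y : Scheme.{u}} [AlgebraicGeometry.IsNoetherian Y] {U : Y.Opens} (hU : IsAffineOpen U)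
    (S : Type u) [CommRing S] [Algebra Γ(Y, U) S] [Module.Finite Γ(Y, U) S]
    (hs : Function.Surjective (PrimeSpectrum.comap (algebraMap Γ(Y, U) S))) :
    ∃ (Y' : Scheme.{u}) (g : Y' ⟶ Y), IsFinite g ∧ Surjective g ∧
      ∀ {G : Scheme.{u}} (z : G ⟶ Y') (x : G), g (z x) ∈ U →
        ∃ (W : G.Opens) (τ : W.toScheme ⟶ Spec (CommRingCat.of S)), x ∈ W ∧
          τ ≫ Spec.map (CommRingCat.ofHom (algebraMap Γ(Y, U) S)) ≫ hU.fromSpec = W.ι ≫ z ≫ g := by
  let p : Spec (CommRingCat.of S) ⟶ Spec Γ(Y, U) := Spec.map (CommRingCat.ofHom (algebraMap Γ(Y, U) S))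
  haveI : IsFinite p := by
    rw [IsFinite.SpecMap_iff]
    exact RingHom.finite_algebraMap.2 ‹_›
  let q := p ≫ hU.fromSpec
  obtain ⟨T, j, π, hj, hjqc, hjd, hπ, hjπ⟩ := GrothLib.FinEnv6.exists_finite_envelope q
  haveI : IsDominant j := inferInstance
  have hrq : Set.range q = (U : Set Y) := by
    rw [Scheme.Hom.comp_base, TopCat.coe_comp, Set.range_comp,
      show Set.range p = Set.univ from Set.range_eq_univ.2 hs, Set.image_univ, hU.range_fromSpec]
  have hTU : ∀ t : T, π t ∈ U → t ∈ Set.range j := by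
    have hpre : ∀ s, j s ∈ π ⁻¹ᵁ U := fun s => by
      show π (j s) ∈ U
      have : q s ∈ (U : Set Y) := hrq ▸ Set.mem_range_self s
      rwa [← hjπ, Scheme.Hom.comp_apply] at this
    let jW := IsOpenImmersion.lift (π ⁻¹ᵁ U).ι j (by
      rintro _ ⟨s, rfl⟩
      rw [Scheme.Opens.range_ι]
      exact hpre s)
    have hjW : jW ≫ (π ⁻¹ᵁ U).ι = j := IsOpenImmersion.lift_fac _ _ _
    have hfac : jW ≫ (π ∣_ U) = p ≫ hU.isoSpec.inv := by
      rw [← cancel_mono U.ι, Category.assoc, morphismRestrict_ι, ← Category.assoc, hjW, hjπ,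
        Category.assoc, IsAffineOpen.isoSpec_inv_ι]
    haveI : IsFinite (jW ≫ (π ∣_ U)) := by rw [hfac]; infer_instance
    haveI : IsFinite jW := MorphismProperty.of_postcomp @IsFinite (W' := @IsSeparated) jW (π ∣_ U)
      inferInstance inferInstance
    intro t ht
    by_contra htj
    have hcl : IsClosed (Set.range jW) := jW.isClosedMap.isClosed_range
    obtain ⟨s, hs1⟩ := j.denseRange.exists_mem_open
      ((π ⁻¹ᵁ U).ι.isOpenEmbedding.isOpenMap _ hcl.isOpen_compl)
      ⟨t, ⟨t, ht⟩, fun ⟨s, hs'⟩ => htj ⟨s, by rw [← hjW, Scheme.Hom.comp_apply, hs']; rfl⟩, rfl⟩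
    obtain ⟨w, hw, hwe⟩ := hs1
    refine hw ⟨s, (π ⁻¹ᵁ U).ι.isOpenEmbedding.injective ?_⟩
    rw [hwe, ← Scheme.Hom.comp_apply, hjW]
  let I := Scheme.IdealSheafData.vanishingIdeal (X := Y) ⟨(U : Set Y)ᶜ, U.2.isClosed_compl⟩
  have hI : Set.range I.subschemeι = (U : Set Y)ᶜ := by
    rw [Scheme.IdealSheafData.range_subschemeι, Scheme.IdealSheafData.coe_support_vanishingIdeal]
    rfl
  refine ⟨T ⨿ I.subscheme, coprod.desc π I.subschemeι, inferInstance, ⟨fun y => ?_⟩, fun {G} z x hx => ?_⟩
  · by_cases hy : y ∈ U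
    · obtain ⟨s, hs'⟩ : y ∈ Set.range q := hrq ▸ hy
      refine ⟨(coprod.inl : T ⟶ T ⨿ I.subscheme) (j s), ?_⟩
      rw [← Scheme.Hom.comp_apply, coprod.inl_desc, ← Scheme.Hom.comp_apply, hjπ]
      exact hs'
    · obtain ⟨c, hc⟩ : y ∈ Set.range I.subschemeι := hI ▸ hy
      refine ⟨(coprod.inr : _ ⟶ T ⨿ I.subscheme) c, ?_⟩
      rw [← Scheme.Hom.comp_apply, coprod.inr_desc]
      exact hc
  · let k : Spec (CommRingCat.of S) ⟶ T ⨿ I.subscheme := j ≫ coprod.inl
    have hk : k ≫ coprod.desc π I.subschemeι = q := by rw [Category.assoc, coprod.inl_desc, hjπ]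
    have hzx : z x ∈ k.opensRange := by
      obtain ⟨(t | c), ht⟩ := (coprodMk T I.subscheme).surjective (z x)
      · rw [coprodMk_inl] at ht
        have : π t ∈ U := by
          rwa [← ht, ← Scheme.Hom.comp_apply, coprod.inl_desc] at hx
        obtain ⟨s, hs'⟩ := hTU t this
        exact ⟨s, by show k s = _; rw [Scheme.Hom.comp_apply, hs', ht]⟩
      · rw [coprodMk_inr] at ht
        have h1 : I.subschemeι c ∈ U := by
          rwa [← ht, ← Scheme.Hom.comp_apply, coprod.inr_desc] at hx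
        have h2 : I.subschemeι c ∈ (U : Set Y)ᶜ := hI ▸ Set.mem_range_self c
        exact absurd h1 h2
    let W := z ⁻¹ᵁ k.opensRange
    let τ := IsOpenImmersion.lift k (W.ι ≫ z) (by
      rintro _ ⟨w, rfl⟩
      exact w.2)
    refine ⟨W, τ, hzx, ?_⟩
    show τ ≫ q = _
    rw [← hk, ← Category.assoc, IsOpenImmersion.lift_fac, Category.assoc]

end GrothLib.SplitLift10
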