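import Groth.Agent.Lib.SplitLift10.Basic

/-!
# Lifting irreducible components to a finite surjective cover
-/

set_option autoImplicit false
set_option linter.all false
set_option backward.isDefEq.respectTransparency false

universe u

open CategoryTheory Limits AlgebraicGeometry Polynomial TopologicalSpace

namespace GrothLib.SplitLift10

variable {Y : Scheme.{u}}

/-- The covering property at an affine open with a finite algebra. -/
def Covers (U : Y.affineOpens) (S : Type u) [CommRing S] [Algebra Γ(Y, U.1) S] {Y' : Scheme.{u}}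
    (g : Y' ⟶ Y) : Prop :=
  ∀ {G : Scheme.{u}} (z : G ⟶ Y') (x : G), g (z x) ∈ U.1 →
    ∃ (W : G.Opens) (τ : W.toScheme ⟶ Spec (CommRingCat.of S)), x ∈ W ∧
      τ ≫ Spec.map (CommRingCat.ofHom (algebraMap Γ(Y, U.1) S)) ≫ U.2.fromSpec = W.ι ≫ z ≫ g

theorem exists_covers [AlgebraicGeometry.IsNoetherian Y] (S : Y.affineOpens → Type u)
    [∀ U, CommRing (S U)] [∀ U : Y.affineOpens, Algebra Γ(Y, U.1) (S U)]
    [∀ U : Y.affineOpens, Module.Finite Γ(Y, U.1) (S U)]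
    (hs : ∀ U : Y.affineOpens, Function.Surjective (PrimeSpectrum.comap (algebraMap Γ(Y, U.1) (S U))))
    (t : Finset Y.affineOpens) :
    ∃ (Y' : Scheme.{u}) (g : Y' ⟶ Y), IsFinite g ∧ Surjective g ∧ ∀ U ∈ t, Covers U (S U) g := by
  classical
  induction t using Finset.induction with
  | empty => exact ⟨Y, 𝟙 Y, inferInstance, inferInstance, fun U hU => absurd hU (Finset.notMem_empty U)⟩
  | insert a t ha ih =>
    obtain ⟨Y₁, g₁, hf₁, hs₁, h₁⟩ := ih
    obtain ⟨Y₂, g₂, hf₂, hs₂, h₂⟩ := exists_cover a.2 (S a) (hs a)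
    haveI : IsFinite (pullback.fst g₁ g₂) := MorphismProperty.pullback_fst _ _ hf₂
    haveI : Surjective (pullback.fst g₁ g₂) := MorphismProperty.pullback_fst _ _ hs₂
    refine ⟨pullback g₁ g₂, pullback.fst g₁ g₂ ≫ g₁, inferInstance, inferInstance, fun U hU => ?_⟩
    intro G z x hx
    rcases Finset.mem_insert.1 hU with rfl | hU
    · rw [← Scheme.Hom.comp_apply, pullback.condition] at hx
      obtain ⟨W, τ, hW, hτ⟩ := h₂ (z ≫ pullback.snd g₁ g₂) x (by simpa [Scheme.Hom.comp_apply] using hx)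
      exact ⟨W, τ, hW, by rw [hτ, pullback.condition, Category.assoc]⟩
    · obtain ⟨W, τ, hW, hτ⟩ := h₁ U hU (z ≫ pullback.fst g₁ g₂) x (by simpa [Scheme.Hom.comp_apply] using hx)
      exact ⟨W, τ, hW, by rw [hτ, Category.assoc]⟩

theorem exists_geometric_lift {F F' : Scheme.{u}} (s : F' ⟶ F) [IsFinite s] [Surjective s] {L : Type u}
    [Field L] [IsAlgClosed L] (η : Spec (CommRingCat.of L) ⟶ F) :
    ∃ φ : Spec (CommRingCat.of L) ⟶ F', φ ≫ s = η := by
  haveI : IsFinite (pullback.snd s η) := MorphismProperty.pullback_snd _ _ ‹_›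
  haveI : Surjective (pullback.snd s η) := MorphismProperty.pullback_snd _ _ ‹_›
  obtain ⟨p, -⟩ := (pullback.snd s η).surjective (IsLocalRing.closedPoint L)
  haveI : CompactSpace ↥(pullback s η) := QuasiCompact.compactSpace_of_compactSpace (pullback.snd s η)
  obtain ⟨c, -, hc⟩ := (isClosed_univ (X := ↥(pullback s η))).exists_closed_singleton ⟨p, trivial⟩
  refine ⟨pointOfClosedPoint (pullback.snd s η) c hc ≫ pullback.fst s η, ?_⟩
  rw [Category.assoc, pullback.condition, pointOfClosedPoint_comp_assoc]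

/-- The affine step. -/
theorem exists_ringHom_lift {A B C S L R : Type u} [CommRing A] [CommRing B] [CommRing C] [CommRing S]
    [CommRing R] [CommRing L] [IsDomain L] (α : A →+* C) (sV : A →+* B) (σ : R →+* A) (a : R →+* S)
    (τ : S →+* C) (hτ : τ.comp a = α.comp σ) (ψ : C →+* L) (hψ : Function.Injective ψ) (β : B →+* L)
    (hβ : β.comp sV = ψ.comp α) {P : R[X]} (hP : P.Monic) (hsp : (P.map a).Splits) {T : Finset B}
    (hT : letI := sV.toAlgebra; Submodule.span A (T : Set B) = ⊤)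
    (hroot : ∀ b ∈ T, P.eval₂ (sV.comp σ) b = 0) :
    ∃ γ : B →+* C, γ.comp sV = α ∧ ψ.comp γ = β := by
  letI := sV.toAlgebra
  have hgen : ∀ b ∈ T, β b ∈ ψ.range := fun b hb => by
    obtain ⟨c, hc⟩ := mem_range_of_root (ψ.comp τ) hsp
      (Polynomial.Monic.ne_zero ((hP.map a).map _)) (b := β b) (by
        rw [Polynomial.IsRoot.def, Polynomial.map_map, Polynomial.eval_map, RingHom.comp_assoc, hτ,
          ← RingHom.comp_assoc, ← hβ, RingHom.comp_assoc, ← Polynomial.hom_eval₂, hroot b hb, map_zero])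
    exact ⟨τ c, hc⟩
  have hall : ∀ b : B, β b ∈ ψ.range := fun b => by
    have hb : b ∈ Submodule.span A (T : Set B) := hT ▸ trivial
    induction hb using Submodule.span_induction with
    | mem x hx => exact hgen x hx
    | zero => exact ⟨0, by simp⟩
    | add x y _ _ hx hy => rw [map_add]; exact add_mem hx hy
    | smul r x _ hx =>
      rw [Algebra.smul_def, map_mul]
      exact mul_mem ⟨α r, (congr($hβ r)).symm⟩ hx
  let e := RingEquiv.ofBijective ψ.rangeRestrict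
    ⟨fun x y h => hψ (congrArg Subtype.val h), ψ.rangeRestrict_surjective⟩
  let γ : B →+* C := (e.symm : ψ.range →+* C).comp (β.codRestrict ψ.range hall)
  have hγ : ψ.comp γ = β := RingHom.ext fun b =>
    congrArg Subtype.val (e.apply_symm_apply ⟨β b, hall b⟩)
  refine ⟨γ, RingHom.ext fun r => hψ ?_, hγ⟩
  exact (congr($hγ (sV r))).trans (congr($hβ r))

theorem exists_finite_surjective_lift {F F' : Scheme.{u}} [AlgebraicGeometry.IsNoetherian Y]
    (i : F ⟶ Y) [IsClosedImmersion i] (s : F' ⟶ F) [IsFinite s] [Surjective s] :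
    ∃ (Y' : Scheme.{u}) (g : Y' ⟶ Y), IsFinite g ∧ Surjective g ∧
      ∀ {G : Scheme.{u}} [IsIntegral G] (h : G ⟶ F) (z : G ⟶ Y'), h ≫ i = z ≫ g →
        ∃ φ : G ⟶ F', φ ≫ s = h := by
  classical
  have hd : ∀ U : Y.affineOpens, ∃ (S : Type u) (_ : CommRing S) (_ : Algebra Γ(Y, U.1) S)
      (_ : Module.Finite Γ(Y, U.1) S) (P : Γ(Y, U.1)[X]) (T : Finset Γ(F', s ⁻¹ᵁ (i ⁻¹ᵁ U.1))),
      Function.Surjective (PrimeSpectrum.comap (algebraMap Γ(Y, U.1) S)) ∧
      (P.map (algebraMap Γ(Y, U.1) S)).Splits ∧ P.Monic ∧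
      (letI := (s.app (i ⁻¹ᵁ U.1)).hom.toAlgebra
       Submodule.span Γ(F, i ⁻¹ᵁ U.1) (T : Set Γ(F', s ⁻¹ᵁ (i ⁻¹ᵁ U.1))) = ⊤) ∧
      ∀ b ∈ T, P.eval₂ ((s.app (i ⁻¹ᵁ U.1)).hom.comp (i.app U.1).hom) b = 0 := fun U => by
    letI := (s.app (i ⁻¹ᵁ U.1)).hom.toAlgebra
    haveI : Module.Finite Γ(F, i ⁻¹ᵁ U.1) Γ(F', s ⁻¹ᵁ (i ⁻¹ᵁ U.1)) :=
      IsFinite.finite_app (f := s) _ (U.2.preimage i)
    obtain ⟨P, T, hP, hT, hr⟩ := exists_monic (B := Γ(F', s ⁻¹ᵁ (i ⁻¹ᵁ U.1))) (i.app U.1).hom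
      (Scheme.Hom.app_surjective i U.1 U.2)
    obtain ⟨S, _, _, _, hs, hsp⟩ := exists_split hP
    exact ⟨S, inferInstance, inferInstance, inferInstance, P, T, hs, hsp, hP, hT, hr⟩
  choose S instR instA instF P T hs hsp hP hT hr using hd
  obtain ⟨t, ht⟩ : ∃ t : Finset Y.affineOpens, ∀ y : Y, ∃ U ∈ t, y ∈ U.1 := by
    obtain ⟨t, ht⟩ := isCompact_univ.elim_finite_subcover (fun U : Y.affineOpens => (U.1 : Set Y))
      (fun U => U.1.2) (fun y _ => by
        obtain ⟨_, ⟨U, hU, rfl⟩, hy, -⟩ :=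
          Y.isBasis_affineOpens.exists_subset_of_mem_open (Set.mem_univ y) isOpen_univ
        exact Set.mem_iUnion.2 ⟨⟨U, hU⟩, hy⟩)
    exact ⟨t, fun y => by simpa using ht (Set.mem_univ y)⟩
  obtain ⟨Y', g, hgf, hgs, hcov⟩ := exists_covers S hs t
  refine ⟨Y', g, hgf, hgs, fun {G} _ h z hz => ?_⟩
  let gen := genericPoint G
  let L := AlgebraicClosure (G.residueField gen)
  let η : Spec (CommRingCat.of L) ⟶ G :=
    Spec.map (CommRingCat.ofHom (algebraMap (G.residueField gen) L)) ≫ G.fromSpecResidueField gen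
  have hη : ∀ l, η l = gen := fun l => by
    rw [Scheme.Hom.comp_apply]
    exact Scheme.fromSpecResidueField_apply gen _
  obtain ⟨φ₀, hφ₀⟩ := exists_geometric_lift s (η ≫ h)
  have loc : ∀ x : G, ∃ (W : G.Opens) (r : W.toScheme ⟶ F'), x ∈ W ∧ r ≫ s = W.ι ≫ h ∧
      ∀ ηW : Spec (CommRingCat.of L) ⟶ W.toScheme, ηW ≫ W.ι = η → ηW ≫ r = φ₀ := fun x => by
    obtain ⟨U, hUt, hxU⟩ := ht (i (h x))
    have hxU' : g (z x) ∈ U.1 := by
      rwa [← Scheme.Hom.comp_apply, hz, Scheme.Hom.comp_apply] at hxU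
    obtain ⟨W₀, τ, hxW₀, hτ⟩ := hcov U hUt z x hxU'
    have hxV : x ∈ W₀ ⊓ h ⁻¹ᵁ (i ⁻¹ᵁ U.1) := ⟨hxW₀, hxU⟩
    obtain ⟨_, ⟨(W : G.Opens), hW, rfl⟩, hxW, hWle⟩ :=
      G.isBasis_affineOpens.exists_subset_of_mem_open hxV (W₀ ⊓ h ⁻¹ᵁ (i ⁻¹ᵁ U.1)).2
    have hW₀ : W ≤ W₀ := fun w hw => (hWle hw).1
    have hWV : W ≤ h ⁻¹ᵁ (i ⁻¹ᵁ U.1) := fun w hw => (hWle hw).2
    haveI : Nonempty W := ⟨⟨x, hxW⟩⟩
    haveI : Nonempty W.toScheme := ‹Nonempty W›
    have hgen : gen ∈ W := ((genericPoint_spec G).mem_open_set_iff W.2).2 ⟨x, trivial, hxW⟩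
    have hV := U.2.preimage i
    have hV' := hV.preimage s
    let ηC := IsOpenImmersion.lift hW.fromSpec η (by
      rintro _ ⟨l, rfl⟩
      rw [hW.range_fromSpec, hη]
      exact hgen)
    obtain ⟨ψ, hψ⟩ : ∃ ψ : Γ(G, W) ⟶ CommRingCat.of L, Spec.map ψ = ηC := ⟨_, Spec.map_preimage _⟩
    haveI : IrreducibleSpace ↥(Spec Γ(G, W)) := inferInstance
    have hψi : Function.Injective ψ.hom := by
      rw [RingHom.injective_iff_ker_eq_bot]
      have h1 : ηC (IsLocalRing.closedPoint L) = genericPoint (Spec Γ(G, W)) :=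
        hW.fromSpec.isOpenEmbedding.injective (by
          rw [genericPoint_eq_of_isOpenImmersion, ← Scheme.Hom.comp_apply, IsOpenImmersion.lift_fac, hη])
      rw [genericPoint_eq_bot_of_affine, ← hψ] at h1
      have h2 := congrArg PrimeSpectrum.asIdeal h1
      change Ideal.comap ψ.hom (IsLocalRing.maximalIdeal L) = ⊥ at h2
      rwa [IsLocalRing.maximalIdeal_eq_bot] at h2
    let φV := IsOpenImmersion.lift hV'.fromSpec φ₀ (by
      rintro _ ⟨l, rfl⟩
      rw [hV'.range_fromSpec]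
      show s (φ₀ l) ∈ i ⁻¹ᵁ U.1
      rw [← Scheme.Hom.comp_apply, hφ₀, Scheme.Hom.comp_apply, hη]
      exact hWV hgen)
    obtain ⟨β, hβ⟩ : ∃ β : Γ(F', s ⁻¹ᵁ (i ⁻¹ᵁ U.1)) ⟶ CommRingCat.of L, Spec.map β = φV :=
      ⟨_, Spec.map_preimage _⟩
    let α := h.appLE (i ⁻¹ᵁ U.1) W hWV
    have hsV : Spec.map (s.app (i ⁻¹ᵁ U.1)) ≫ hV.fromSpec = hV'.fromSpec ≫ s := by
      rw [Scheme.Hom.app_eq_appLE]; exact IsAffineOpen.SpecMap_appLE_fromSpec s hV hV' le_rfl
    have hiU : Spec.map (i.app U.1) ≫ U.2.fromSpec = hV.fromSpec ≫ i := by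
      rw [Scheme.Hom.app_eq_appLE]; exact IsAffineOpen.SpecMap_appLE_fromSpec i U.2 hV le_rfl
    have hα : Spec.map α ≫ hV.fromSpec = hW.fromSpec ≫ h :=
      IsAffineOpen.SpecMap_appLE_fromSpec h hV hW hWV
    have hsq : s.app (i ⁻¹ᵁ U.1) ≫ β = α ≫ ψ := by
      apply Spec.map_injective
      rw [← cancel_mono hV.fromSpec, Spec.map_comp, Spec.map_comp, Category.assoc, Category.assoc,
        hsV, hα, hβ, hψ, ← Category.assoc, ← Category.assoc, IsOpenImmersion.lift_fac,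
        IsOpenImmersion.lift_fac, hφ₀]
    obtain ⟨τr, hτr⟩ : ∃ τr : CommRingCat.of (S U) ⟶ Γ(G, W),
        Spec.map τr = hW.isoSpec.inv ≫ G.homOfLE hW₀ ≫ τ := ⟨_, Spec.map_preimage _⟩
    have hτsq : CommRingCat.ofHom (algebraMap Γ(Y, U.1) (S U)) ≫ τr = i.app U.1 ≫ α := by
      apply Spec.map_injective
      rw [← cancel_mono U.2.fromSpec, Spec.map_comp, Spec.map_comp, Category.assoc, Category.assoc,
        hiU, ← Category.assoc (Spec.map α), hα, hτr, Category.assoc, Category.assoc, hτ,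
        Scheme.homOfLE_ι_assoc, IsAffineOpen.isoSpec_inv_ι_assoc, Category.assoc, hz]
    obtain ⟨γ, hγ1, hγ2⟩ := exists_ringHom_lift α.hom (s.app (i ⁻¹ᵁ U.1)).hom (i.app U.1).hom
      (algebraMap Γ(Y, U.1) (S U)) τr.hom (congrArg CommRingCat.Hom.hom hτsq) ψ.hom hψi β.hom
      (congrArg CommRingCat.Hom.hom hsq) (hP U) (hsp U) (hT U) (hr U)
    refine ⟨W, hW.isoSpec.hom ≫ Spec.map (CommRingCat.ofHom γ) ≫ hV'.fromSpec, hxW, ?_, fun ηW hηW => ?_⟩
    · have : s.app (i ⁻¹ᵁ U.1) ≫ CommRingCat.ofHom γ = α := CommRingCat.hom_ext hγ1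
      rw [Category.assoc, Category.assoc, ← hsV, ← Spec.map_comp_assoc, this, hα, ← Category.assoc,
        IsAffineOpen.isoSpec_hom_fromSpec]
    · have h1 : ηW ≫ hW.isoSpec.hom = ηC := by
        rw [← cancel_mono hW.fromSpec, Category.assoc, IsAffineOpen.isoSpec_hom_fromSpec, hηW,
          IsOpenImmersion.lift_fac]
      have h2 : CommRingCat.ofHom γ ≫ ψ = β := CommRingCat.hom_ext hγ2
      rw [← Category.assoc, h1, ← hψ, ← Spec.map_comp_assoc, h2, hβ, IsOpenImmersion.lift_fac]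
  choose W r hxW hrs hrη using loc
  let 𝒰 := G.openCoverOfIsOpenCover W (eq_top_iff.2 fun x _ => TopologicalSpace.Opens.mem_iSup.2 ⟨x, hxW x⟩)
  refine ⟨𝒰.glueMorphisms r fun x y => ?_, 𝒰.hom_ext _ _ fun x => ?_⟩
  · let j := pullback.fst (W x).ι (W y).ι ≫ (W x).ι
    show pullback.fst (W x).ι (W y).ι ≫ r x = pullback.snd (W x).ι (W y).ι ≫ r y
    have hgen : ∀ v : G, gen ∈ W v := fun v =>
      ((genericPoint_spec G).mem_open_set_iff (W v).2).2 ⟨v, trivial, hxW v⟩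
    have hrj : ∀ l, η l ∈ Set.range j := fun l => by
      show η l ∈ Set.range (pullback.fst (W x).ι (W y).ι ≫ (W x).ι)
      rw [IsOpenImmersion.range_pullback_to_base_of_left, hη]
      simp only [Scheme.Opens.range_ι, Set.mem_inter_iff]
      exact ⟨hgen x, hgen y⟩
    let ηP := IsOpenImmersion.lift j η (by rintro _ ⟨l, rfl⟩; exact hrj l)
    have hηP : ηP ≫ j = η := IsOpenImmersion.lift_fac _ _ _
    haveI : AlgebraicGeometry.IsReduced (pullback (W x).ι (W y).ι) := isReduced_of_isOpenImmersion j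
    haveI : IsDominant ηP := by
      refine ⟨fun p => mem_closure_iff.2 fun O hO hpO => ?_⟩
      have h2 : gen ∈ j '' O := ((genericPoint_spec G).mem_open_set_iff
        (j.isOpenEmbedding.isOpenMap O hO)).2 ⟨j p, trivial, p, hpO, rfl⟩
      obtain ⟨q, hqO, hq⟩ := h2
      refine ⟨q, hqO, IsLocalRing.closedPoint L, j.isOpenEmbedding.injective ?_⟩
      rw [hq, ← Scheme.Hom.comp_apply, hηP, hη]
    refine ext_of_isDominant_of_isSeparated s ?_ ηP ?_
    · rw [Category.assoc, Category.assoc, hrs, hrs, pullback.condition_assoc]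
    · rw [← Category.assoc, ← Category.assoc, hrη x _ (by rw [Category.assoc]; exact hηP),
        hrη y _ (by rw [Category.assoc, ← pullback.condition]; exact hηP)]
  · rw [← Category.assoc, 𝒰.ι_glueMorphisms]
    exact hrs x

end GrothLib.SplitLift10
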